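import Cfsg.Agent.H570.Ore.RowB_m3
import Cfsg.Agent.H860.I4.BEleven
import Cfsg.Agent.H860.I4.SFive
import Cfsg.Agent.H671.J4.SFive
import Cfsg.Agent.H676.Deg.Val
import Cfsg.Agent.H705.OreB.FiveRad
import Cfsg.Agent.H844.Ore.BReal
import Cfsg.Agent.PreUniqB.HNCase
import Cfsg.Agent.HN.InvHN
import Cfsg.Agent.H705.OreB.Five
import Cfsg.Agent.H844.Ore.BPrimes
import Cfsg.Agent.H139.LD.Struct13
import Cfsg.Agent.FastGrp
import Cfsg.Agent.Prune
set_option linter.all false

section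
prune_inst 0x7f00000000000000000000000000000000000000000000000000000000000000000000000000000000000000000000000000000000000000000000000000000000000000000000000000000000000000003fffffffffffffffffffffffffffbeffbdffffffff

-- part: H570/TC/Eleven
section
set_option linter.all false
open scoped Cfsg.Agent.FastGrp

-- part: H570/TC/NumB
section
/-!
# S4173, row B: the numerical part at the prime 23, with the residues modulo 11 (helper570)

`n ≠ 1, 4371, 91884` prime to 23 is at least `1411833` (`n ≡ ± 1 (23)`), resp. `2159274` (`n ≡ ± 11 (23)`).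
-/

set_option autoImplicit false

namespace Cfsg.Agent.H570.TC.NumB

open Cfsg.Agent.H653.Sieve Cfsg.Agent.H570.Ore.Num

/-- the residues modulo 11 -/
def r11 (n : ℕ) : Bool := r3 11 n || (r2 11 4 n || r2 11 5 n)

/-- the test -/
def chk (n : ℕ) : Bool :=
  bif Nat.beq n 1 then true else
  bif Nat.beq n 4371 then true else
  bif Nat.beq n 91884 then true else
  bif r2 23 1 n then
    bif Nat.ble 1411833 n then true else
    bif !(r3 47 n || r2 47 23 n) then true else
    bif !(r3 31 n || r2 31 15 n) then true else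
    bif !(r3 19 n) then true else
    bif !(r3 17 n || r2 17 2 n) then true else
    bif !(r11 n) then true else
    bif r2 31 15 n && !(r3 47 n) then true else dead n
  else bif r2 23 11 n then
    bif !(r3 47 n) then true else
    bif !(r3 31 n) then true else
    bif !(r3 19 n) then true else
    bif !(r3 17 n || r2 17 2 n) then true else
    bif !(r11 n) then true else dead n
  else true

set_option maxRecDepth 100000 in
theorem check : allDiv (2159274 * 2159274) chk L 1 = true := by decide +kernel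

/-- **The numerical statement.** -/
theorem num {n : ℕ} (hn : n ∣ 4154781481226426191177580544000000) (h1 : n ≠ 1) (h0 : n ≠ 4371) (h0' : n ≠ 91884)
    (h47 : r3 47 n = true ∨ r2 47 23 n = true) (h31 : r3 31 n = true ∨ r2 31 15 n = true) (h19 : r3 19 n = true)
    (h17 : r3 17 n = true ∨ r2 17 2 n = true) (h11 : r11 n = true)
    (hr31 : r2 31 15 n = true → r3 47 n = true)
    (hreal : r2 23 11 n = true → r3 47 n = true ∧ r3 31 n = true)
    {m : ℕ} (hm1 : 1 ≤ m) (hm : 4032 * m ≤ n) (hd : n ∣ 47953709766144000 * m)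
    (hm23 : m % 23 = 0 ∨ m % 23 = n % 23) :
    (r2 23 1 n = true → 1411833 ≤ n) ∧ (r2 23 11 n = true → 2159274 ≤ n) := by
  have hn0 : 0 < n := Nat.pos_of_dvd_of_pos hn (by norm_num)
  have key : n < 2159274 → chk n = true := by
    intro h
    have h2 := allDiv_spec L_prime check n (by rw [fac]; exact hn) (by rw [one_mul]; exact Nat.mul_self_lt_mul_self h)
    rwa [one_mul] at h2
  have hdead : dead n ≠ true := fun h => dead_spec hn0 h hm1 hm hd hm23
  have hb1 : Nat.beq n 1 = false := by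
    rw [Bool.eq_false_iff]
    intro h
    exact h1 (Nat.eq_of_beq_eq_true h)
  have hb0 : Nat.beq n 4371 = false := by
    rw [Bool.eq_false_iff]
    intro h
    exact h0 (Nat.eq_of_beq_eq_true h)
  have hb0' : Nat.beq n 91884 = false := by
    rw [Bool.eq_false_iff]
    intro h
    exact h0' (Nat.eq_of_beq_eq_true h)
  have h47' : (!(r3 47 n || r2 47 23 n)) = false := by
    rcases h47 with h | h <;> rw [h] <;> simp
  have h31' : (!(r3 31 n || r2 31 15 n)) = false := by
    rcases h31 with h | h <;> rw [h] <;> simp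
  have h17' : (!(r3 17 n || r2 17 2 n)) = false := by
    rcases h17 with h | h <;> rw [h] <;> simp
  have h19' : (!(r3 19 n)) = false := by rw [h19]; rfl
  have h11' : (!(r11 n)) = false := by rw [h11]; rfl
  have hr31' : (r2 31 15 n && !(r3 47 n)) = false := by
    rcases Bool.eq_false_or_eq_true (r2 31 15 n) with h | h
    · rw [h, hr31 h]; rfl
    · rw [h]; rfl
  constructor
  · intro h23
    by_contra hlt
    have h2 := key (by omega)
    have h3 : Nat.ble 1411833 n = false := by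
      rw [Bool.eq_false_iff]
      intro h
      exact hlt (Nat.le_of_ble_eq_true h)
    rw [chk, hb1, hb0, hb0', h23, h3, h47', h31', h19', h17', h11', hr31'] at h2
    simp only [cond_false, cond_true] at h2
    exact hdead h2
  · intro h23
    by_contra hlt
    have h2 := key (by omega)
    obtain ⟨h4, h5⟩ := hreal h23
    have h4' : (!(r3 47 n)) = false := by rw [h4]; rfl
    have h5' : (!(r3 31 n)) = false := by rw [h5]; rfl
    have h6 : r2 23 1 n = false := by
      rw [Bool.eq_false_iff]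
      intro h
      have h7 := r2_spec.2 h
      have h8 := r2_spec.2 h23
      omega
    rw [chk, hb1, hb0, hb0', h6, h23, h4', h5', h19', h17', h11'] at h2
    simp only [cond_false, cond_true] at h2
    exact hdead h2

end Cfsg.Agent.H570.TC.NumB
end

-- part: H570/TC/Eleven
section
/-!
# S4173, row B: the degrees modulo 11 (helper570, after helper860 and helper705)

`C(x) = 11 × S₅` for `x` of order 11; `χ(1) ≡ 0, ± 1, ± 4, ± 5 (11)`.
-/

set_option autoImplicit false
set_option maxRecDepth 100000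

open Cfsg Subgroup
open scoped ComplexConjugate

namespace Cfsg.Agent.H570.TC.Eleven

open Cfsg.Agent.Characters.Core
open Cfsg.Agent.SmallSimple.ThetaSetup Cfsg.Agent.SmallSimple.ThetaOrtho
open Cfsg.Agent.BabyM Cfsg.Agent.BabyU.ClosModel Cfsg.Agent.BabyU.ClosLane
open Cfsg.Agent.H570.Ore

/-- **`|C(x)| = 1320`** (helper860) -/
theorem cent11 {x : Spor.BabyMonster} (hx : orderOf x = 11) :
    Nat.card (centralizer ({x} : Set Spor.BabyMonster)) = 1320 := by
  obtain ⟨φ, hφ, hk⟩ := H860.I4.exists_hom hx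
  have h1 : Nat.card φ.ker = 11 := by
    have e : φ.ker ≃ zpowers x :=
      { toFun := fun g => ⟨(g : ↥(centralizer ({x} : Set Spor.BabyMonster))), (hk _).1 g.2⟩
        invFun := fun g => ⟨⟨g, by
          obtain ⟨i, hi⟩ := mem_zpowers_iff.1 g.2
          rw [mem_centralizer_singleton_iff, ← hi]
          exact (Commute.refl x).zpow_left i⟩, (hk _).2 g.2⟩
        left_inv := fun g => Subtype.ext (Subtype.ext rfl)
        right_inv := fun g => Subtype.ext rfl }
    rw [Nat.card_congr e, Nat.card_zpowers, hx]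
  have h2 := φ.ker.card_mul_index
  rw [Subgroup.index_ker, MonoidHom.range_eq_top.2 hφ, Subgroup.card_top, h1, Nat.card_eq_fintype_card,
    Fintype.card_perm, Fintype.card_fin] at h2
  rw [← h2]
  rfl

/-- the values of the column -/
def wl : List (ℕ × ℤ) := [(0, 0), (1, -10), (1, 1), (1, 12), (2, -20), (2, 2), (3, -30), (3, -8), (3, 3), (4, 4), (4, 15),
  (5, -6), (5, 5), (6, -5), (6, 6), (7, -15), (7, -4), (8, -3), (8, 8), (8, 30), (9, -2), (9, 20), (10, -12), (10, -1),
  (10, 10)]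

open Cfsg.Agent.H34.TI Cfsg.Agent.H671.J4 in
/-- the degrees of the irreducible characters of `S₅` (helper705) -/
theorem deg5 {φ : Equiv.Perm (Fin 5) → ℂ} (hφ : IsIrrCharacter (Equiv.Perm (Fin 5)) φ) :
    ∃ n : ℤ, (n = 1 ∨ n = 4 ∨ n = 5 ∨ n = 6) ∧ φ 1 = n := by
  obtain ⟨a, ha⟩ := irr5_bij.2 ⟨φ, hφ⟩
  refine ⟨Cfsg.Agent.H34.TI.t7 a, ?_, ?_⟩
  · clear ha
    revert a
    decide
  · have h1 : (irr5 a : Equiv.Perm (Fin 5) → ℂ) 1 = φ 1 :=
      congrArg (fun ψ : IrrCharacter (Equiv.Perm (Fin 5)) => (ψ : Equiv.Perm (Fin 5) → ℂ) 1) ha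
    rw [← h1]
    show ((th5 a 1 : ℤ) : ℂ) = _
    rw [th5_one]

theorem model (χ : IrrCharacter Spor.BabyMonster) : NumB.r11 (charDegree (χ : Spor.BabyMonster → ℂ)) = true := by
  have hs : IsSimpleGroup Spor.BabyMonster := KFacts.Baby.RowB.simple_B
  have hiso : Spor.IsoB Spor.BabyMonster := ⟨MulEquiv.refl _⟩
  have hN : Nat.card Spor.BabyMonster = Abs.NB := NotCT.Orders.b hiso
  have hfin : Finite Spor.BabyMonster := Nat.finite_of_card_ne_zero (by rw [hN]; norm_num)
  have hna : ¬ IsMulCommutative Spor.BabyMonster := by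
    intro hcomm
    have h5 : (Nat.card Spor.BabyMonster).Prime := by
      let _ : CommGroup Spor.BabyMonster := { (inferInstance : Group Spor.BabyMonster) with mul_comm := fun a b => hcomm.is_comm.comm a b }
      exact IsSimpleGroup.prime_card
    rw [hN] at h5
    norm_num at h5
  have hp : Fact (Nat.Prime 11) := ⟨by norm_num⟩
  obtain ⟨x, hx⟩ := exists_prime_orderOf_dvd_card' (G := Spor.BabyMonster) 11 (by rw [hN]; norm_num)
  obtain ⟨P, K, hK, hP, hPx, -, -, he, hKc⟩ := Abs.exists_blk hna hN hx (k := 120) (by rw [cent11 hx])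
    10 1 wl 0 false (by decide +kernel)
  -- `K = S₅`
  obtain ⟨φ, hφ, hk⟩ := H860.I4.exists_hom hx
  have hCx : centralizer ((P : Subgroup Spor.BabyMonster) : Set Spor.BabyMonster) = centralizer ({x} : Set Spor.BabyMonster) := by
    rw [hPx, SmallSimple.SelfCentPrime.centralizer_zpowers]
  have hKx : ∀ y : K, (y : Spor.BabyMonster) ∈ centralizer ({x} : Set Spor.BabyMonster) := by
    intro y
    rw [← hCx]
    exact hK.le y.2
  let f : K →* Equiv.Perm (Fin 5) :=
    φ.comp ((Subgroup.subtype K).codRestrict (centralizer ({x} : Set Spor.BabyMonster)) hKx)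
  have hf : Function.Injective f := by
    rw [injective_iff_map_eq_one]
    intro y hy
    have h1 : (y : Spor.BabyMonster) ∈ zpowers x := (hk _).1 hy
    rw [← hPx] at h1
    have h2 := hK.disjoint hP h1 y.2
    exact Subtype.ext h2
  have hb : Function.Bijective f := by
    rw [Nat.bijective_iff_injective_and_card]
    refine ⟨hf, ?_⟩
    rw [hKc, Nat.card_eq_fintype_card, Fintype.card_perm, Fintype.card_fin]
    rfl
  let e : K ≃* Equiv.Perm (Fin 5) := MulEquiv.ofBijective f hb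
  have hI : Cfsg.Agent.H676.Deg.Inn P K := by
    intro n hn
    obtain ⟨σ, hσ⟩ := H860.I4.SFive.inner ((e.symm.trans (cK hK hn)).trans e)
    refine ⟨(e.symm σ : K), (e.symm σ).2, fun y hy => ?_⟩
    have h1 := hσ (e ⟨y, hy⟩)
    have h2 : ((e.symm.trans (cK hK hn)).trans e) (e ⟨y, hy⟩) = e (cK hK hn ⟨y, hy⟩) := by
      show e (cK hK hn (e.symm (e ⟨y, hy⟩))) = _
      rw [e.symm_apply_apply]
    rw [h2] at h1
    have h3 : cK hK hn ⟨y, hy⟩ = e.symm σ * ⟨y, hy⟩ * (e.symm σ)⁻¹ := by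
      apply e.injective
      rw [h1, map_mul, map_mul, map_inv, e.apply_symm_apply]
    exact congrArg Subtype.val h3
  have hd := Blocks.Knorr.charDegree_eq χ.2
  rcases Cfsg.Agent.H676.Deg.val hK hP (by rw [he]) hI χ with ⟨-, k, hk⟩ | ⟨ψ, δ, hδ, -, k, hk⟩
  · rw [hd] at hk
    have h1 : charDegree (χ : Spor.BabyMonster → ℂ) = 11 * k := by exact_mod_cast hk
    unfold NumB.r11
    rw [Num.r3_spec (Or.inl (by rw [h1, Nat.mul_mod_right]))]
    rfl
  · obtain ⟨n, hn, hn1⟩ := deg5 (isIrr_comp e.symm.toMonoidHom e.symm.surjective ψ.2)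
    have e1 : ((ψ : K → ℂ) ∘ e.symm.toMonoidHom) 1 = (ψ : K → ℂ) 1 := by
      rw [Function.comp_apply, map_one]
    rw [e1] at hn1
    rw [hd, hn1] at hk
    have h1 : (charDegree (χ : Spor.BabyMonster → ℂ) : ℤ) = δ * n + 11 * k := by exact_mod_cast hk
    have h2 : (charDegree (χ : Spor.BabyMonster → ℂ) % 11 = 1 ∨ charDegree (χ : Spor.BabyMonster → ℂ) % 11 = 11 - 1) ∨
        (charDegree (χ : Spor.BabyMonster → ℂ) % 11 = 4 ∨ charDegree (χ : Spor.BabyMonster → ℂ) % 11 = 11 - 4) ∨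
        (charDegree (χ : Spor.BabyMonster → ℂ) % 11 = 5 ∨ charDegree (χ : Spor.BabyMonster → ℂ) % 11 = 11 - 5) := by
      rcases hδ with rfl | rfl <;> rcases hn with rfl | rfl | rfl | rfl <;> omega
    unfold NumB.r11
    rcases h2 with h2 | h2 | h2
    · rw [Num.r3_spec (Or.inr h2)]; rfl
    · rw [Num.r2_spec.1 h2]; simp
    · rw [Num.r2_spec.1 h2]; simp

/-- **The residues modulo 11.** -/
theorem r11 (χ : IrrCharacter Inst.M.G) : NumB.r11 (charDegree (χ : Inst.M.G → ℂ)) = true := by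
  have e : Inst.M.G ≃* Spor.BabyMonster := BM.KHAll.iso.symm
  have h1 : charDegree (χ : Inst.M.G → ℂ) = charDegree (fun g : Spor.BabyMonster => (χ : Inst.M.G → ℂ) (e.symm g)) := by
    unfold charDegree
    simp
  rw [h1]
  exact model ⟨_, isIrr_comp e.symm.toMonoidHom e.symm.surjective χ.2⟩

end Cfsg.Agent.H570.TC.Eleven
end

private theorem dce_55081ae2a1be : _root_.True := by
  try have : _root_.True := by simp only [_root_.Cfsg.Agent.H570.TC.NumB.chk.eq_1]
  exact _root_.True.intro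
end

-- part: H844/TC/BPrimeLe
section
set_option linter.all false
open scoped Cfsg.Agent.FastGrp

-- part: H705/TC/FiveHN
section
/-!
# S4173, row B: elements of order 5 of type HN commute with a 2B-involution (helper705)

* `abs_two` : the abstract statement;
* `two_hn` : `x ∈ C(z)` of order 5, `C(x) / ⟨x⟩ ≅ HN`, `t` of class 2A: `Two x t`.
-/

set_option autoImplicit false
set_option maxRecDepth 100000
set_option linter.unusedSectionVars false

namespace Cfsg.Agent.H705.TC.FiveHN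

open Cfsg Cfsg.Agent Cfsg.Agent.LThreeMB
open Subgroup (centralizer mem_centralizer_singleton_iff)

universe u v

section abs

variable {G : Type u} [Group G] {x : G}

theorem eq_of_mk (hx : ∀ i : ℤ, x ^ i * x ^ i = 1 → x ^ i = 1) {g k : G} (hg : g * x = x * g) (hk : k * x = x * k)
    (hgg : g * g = 1) (hkk : k * k = 1) (h : mk x hg = mk x hk) : g = k := by
  obtain ⟨i, hi⟩ := (mk_eq_mk hg hk).1 h
  have hc : Commute g (x ^ i) := (show Commute g x from hg).zpow_right i
  have h1 : x ^ i * x ^ i = 1 := by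
    calc x ^ i * x ^ i = g * g * (x ^ i * x ^ i) := by rw [hgg, one_mul]
      _ = g * (g * x ^ i) * x ^ i := by group
      _ = g * (x ^ i * g) * x ^ i := by rw [hc.eq]
      _ = (g * x ^ i) * (g * x ^ i) := by group
      _ = 1 := by rw [hi, hkk]
  rw [hx i h1, mul_one] at hi
  exact hi

/-- **The abstract statement.** -/
theorem abs_two (hx : ∀ i : ℤ, x ^ i * x ^ i = 1 → x ^ i = 1) {F : Type v} [Group F] (e : XX x ≃* F) {t z : G}
    (htx : t * x = x * t) (hzx : z * x = x * z) (htt : t * t = 1) (hzz : z * z = 1) {τ σ : F}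
    (hτσ : τ * σ = σ * τ) (hc : IsConj τ σ) (ht : IsConj τ (e (mk x htx))) (hz : IsConj (τ * σ) (e (mk x hzx))) :
    ∃ w g h : G, w * w = 1 ∧ w * x = x * w ∧ w * t = t * w ∧ w * t = g * t * g⁻¹ ∧ h * z * h⁻¹ = w := by
  obtain ⟨c, hc1⟩ := isConj_iff.1 ht
  -- `τ' = c σ c⁻¹` is conjugate to the image of `t`
  have h1 : IsConj (e (mk x htx)) (c * σ * c⁻¹) := ht.symm.trans (hc.trans (isConj_iff.2 ⟨c, rfl⟩))
  obtain ⟨f, hf⟩ := isConj_iff.1 h1
  obtain ⟨f, rfl⟩ := e.surjective f
  obtain ⟨g, hg, rfl⟩ := exists_mk f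
  have htgx : (g * t * g⁻¹) * x = x * (g * t * g⁻¹) := conj_comm hg htx
  have e1 : e (mk x htgx) = c * σ * c⁻¹ := by
    rw [← hf, ← map_mul, ← map_inv, ← map_mul]
    rfl
  have htg : (g * t * g⁻¹) * (g * t * g⁻¹) = 1 := by
    calc (g * t * g⁻¹) * (g * t * g⁻¹) = g * (t * t) * g⁻¹ := by group
      _ = 1 := by rw [htt]; group
  have hti : t⁻¹ = t := inv_eq_of_mul_eq_one_left htt
  set s := g * t * g⁻¹ with hs
  -- `s` and `t` commute
  have hst : t * s * t⁻¹ = s := by
    have h2 : (t * s * t⁻¹) * x = x * (t * s * t⁻¹) := conj_comm htx htgx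
    refine eq_of_mk hx h2 htgx ?_ htg ?_
    · calc t * s * t⁻¹ * (t * s * t⁻¹) = t * (s * s) * t⁻¹ := by group
        _ = 1 := by rw [htg]; group
    · apply e.injective
      have h3 : e (mk x h2) = e (mk x htx) * e (mk x htgx) * (e (mk x htx))⁻¹ := by
        rw [← map_mul, ← map_inv, ← map_mul]
        rfl
      rw [h3, e1, ← hc1]
      calc c * τ * c⁻¹ * (c * σ * c⁻¹) * (c * τ * c⁻¹)⁻¹ = c * (τ * σ) * τ⁻¹ * c⁻¹ := by group
        _ = c * (σ * τ) * τ⁻¹ * c⁻¹ := by rw [hτσ]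
        _ = c * σ * c⁻¹ := by group
  have hst' : t * s = s * t := mul_inv_eq_iff_eq_mul.1 hst
  have hwx : (s * t) * x = x * (s * t) := by rw [mul_assoc, htx, ← mul_assoc, htgx, mul_assoc]
  have hww : (s * t) * (s * t) = 1 := by
    calc (s * t) * (s * t) = s * (t * s) * t := by group
      _ = s * (s * t) * t := by rw [hst']
      _ = (s * s) * (t * t) := by group
      _ = 1 := by rw [htg, htt, one_mul]
  have e2 : e (mk x hwx) = c * (τ * σ) * c⁻¹ := by
    have h3 : e (mk x hwx) = e (mk x htgx) * e (mk x htx) := by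
      rw [← map_mul]
      rfl
    rw [h3, e1, ← hc1]
    calc c * σ * c⁻¹ * (c * τ * c⁻¹) = c * (σ * τ) * c⁻¹ := by group
      _ = c * (τ * σ) * c⁻¹ := by rw [hτσ]
  have h4 : IsConj (e (mk x hzx)) (e (mk x hwx)) := by
    rw [e2]
    exact hz.symm.trans (isConj_iff.2 ⟨c, rfl⟩)
  obtain ⟨d, hd⟩ := isConj_iff.1 h4
  obtain ⟨d, rfl⟩ := e.surjective d
  obtain ⟨h, hh, rfl⟩ := exists_mk d
  refine ⟨s * t, g, h, hww, hwx, ?_, ?_, ?_⟩
  · rw [mul_assoc, htt, mul_one, ← hst', ← mul_assoc, htt, one_mul]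
  · rw [mul_assoc, htt, mul_one]
  · have h5 : (h * z * h⁻¹) * x = x * (h * z * h⁻¹) := conj_comm hh hzx
    refine eq_of_mk hx h5 hwx ?_ hww ?_
    · calc h * z * h⁻¹ * (h * z * h⁻¹) = h * (z * z) * h⁻¹ := by group
        _ = 1 := by rw [hzz]; group
    · apply e.injective
      rw [← hd, ← map_mul, ← map_inv, ← map_mul]
      rfl

end abs

open Cfsg.Agent.MonsterX Cfsg.Agent.MonsterX.InstData Cfsg.Agent.MonsterX.MainPack Cfsg.Agent.MonsterU
open Cfsg.Agent.MonsterP Cfsg.Agent.MonsterN Cfsg.Agent.LThree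
open Cfsg.Agent.MonsterX.MainBasic Cfsg.Agent.MonsterX.MainSimple Cfsg.Agent.MonsterX.Model
open Cfsg.Agent.H979.BAdj Cfsg.Agent.H979.CovLift Cfsg.Agent.H979.OddB
open Cfsg.Agent.H630.NH Cfsg.Agent.H241.NH Cfsg.Agent.H630.Baby
open Cfsg.Agent.H844.Ore.BReal (Two)

/-- the pair in `HN` -/
theorem pair_hn : ∃ τ σ : Cfsg.Spor.HN, τ * σ = σ * τ ∧ IsConj τ σ ∧ IsConj τ (Cfsg.Agent.HN.NormalH.ψ Cfsg.Agent.HN.H0Basic.τ) ∧
    τ * σ = Cfsg.Agent.HN.XWords.W0 := by
  have hs : IsSimpleGroup Cfsg.Spor.HN := Cfsg.Agent.S1701.result.1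
  refine ⟨Cfsg.Agent.HN.NormalH.ψ Cfsg.Agent.HN.H0Basic.τ, Cfsg.Agent.HN.NormalH.ψ Cfsg.Agent.HN.Syl.a, ?_,
    Cfsg.Agent.HN.InvHN.isConj_a.symm, IsConj.refl _, ?_⟩
  · rw [← map_mul, ← map_mul, Cfsg.Agent.HN.H0Basic.τ_comm]
  · rw [Cfsg.Agent.HN.XWords.W0_eq, ← map_mul, Cfsg.Agent.HN.H0Basic.τ_comm]

/-- **Type HN.** -/
theorem two_hn {x : centralizer ({KDone.K.z} : Set Mon)} (hx : orderOf x = 5)
    (hfr : ¬ fr (KChart.pi MFive.Row.hc x) ∣ 2) (hfr2 : ∃ k, fr (KChart.pi MFive.Row.hc x) = 2 ^ k)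
    (hHN : Spor.IsoHN (XX (x : Mon))) {t : Mon} (ht : LThreeB.Row.TA t) (htx : t * (x : Mon) = x * t) :
    Two (x : Mon) t := by
  have hfin : Finite Mon := MThirteen.Row.finite
  have h := KChart.chart KDone.lft MFive.Row.hc
  have hto := MThirteen.Row.ta_order ht
  have htt : t * t = 1 := by rw [← pow_two, ← hto, pow_orderOf_eq_one]
  have hzz : KDone.K.z * KDone.K.z = 1 := h.large.z_sq
  have hzx : KDone.K.z * (x : Mon) = x * KDone.K.z := (mem_centralizer_singleton_iff.1 x.2).symm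
  have hxo : orderOf (x : Mon) = 5 := by rw [Subgroup.orderOf_coe, hx]
  have hodd : ∀ i : ℤ, (x : Mon) ^ i * (x : Mon) ^ i = 1 → (x : Mon) ^ i = 1 := by
    intro i hi
    have h5 : ((x : Mon) ^ i) ^ 5 = 1 := by
      rw [← zpow_natCast, ← zpow_mul, mul_comm, zpow_mul, zpow_natCast, ← hxo, pow_orderOf_eq_one, one_zpow]
    rwa [show (5 : ℕ) = 2 + 2 + 1 by norm_num, pow_succ, pow_add, pow_two, hi, one_mul, one_mul] at h5
  obtain ⟨e⟩ := hHN
  have hs : IsSimpleGroup Cfsg.Spor.HN := Cfsg.Agent.S1701.result.1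
  have hne : ∀ s : Mon, s * s = 1 → s ≠ 1 → ∀ hs : s * (x : Mon) = x * s, orderOf (e (mk (x : Mon) hs)) = 2 := by
    intro s hss hs1 hs
    have : Fact (Nat.Prime 2) := ⟨Nat.prime_two⟩
    rw [MulEquiv.orderOf_eq]
    apply orderOf_eq_prime
    · rw [pow_two, mk_mul hs hs (by rw [hss, one_mul, mul_one])]
      rw [mk_congr _ (by rw [one_mul, mul_one]) hss]
      rfl
    · intro h1
      obtain ⟨i, hi⟩ := (mk_eq_one hs).1 h1
      apply hs1
      rw [← hi]
      exact hodd i (by rw [hi, hss])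
  -- the image of `z`
  have hz : IsConj (e (mk (x : Mon) hzx)) Cfsg.Agent.HN.XWords.W0 := by
    rcases Cfsg.Agent.PreUniqB.classes_hn (e (mk (x : Mon) hzx)) (hne _ hzz h.large.z_ne hzx) with h1 | h1
    · exact absurd h1 (Cfsg.Agent.PreUniqB.not_pairish h Nat.prime_five (by norm_num) hx hfr hfr2 e)
    · exact h1
  have ht1 : t ≠ 1 := by
    rintro rfl
    rw [orderOf_one] at hto
    omega
  -- the image of `t`
  have htc : IsConj (e (mk (x : Mon) htx)) (Cfsg.Agent.HN.NormalH.ψ Cfsg.Agent.HN.H0Basic.τ) := by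
    rcases Cfsg.Agent.SigZeroHN.card_centralizer_cases (hne _ htt ht1 htx) with ⟨h1, -⟩ | ⟨h1, -⟩
    · exact h1
    · exfalso
      obtain ⟨c, hc⟩ := isConj_iff.1 (h1.trans hz.symm)
      obtain ⟨c, rfl⟩ := e.surjective c
      obtain ⟨g, hg, rfl⟩ := exists_mk c
      apply MThirteen.Row.ta_ne ht g
      refine eq_of_mk hodd (conj_comm hg htx) hzx ?_ hzz ?_
      · calc g * t * g⁻¹ * (g * t * g⁻¹) = g * (t * t) * g⁻¹ := by group
          _ = 1 := by rw [htt]; group
      · apply e.injective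
        rw [← hc, ← map_mul, ← map_inv, ← map_mul]
        rfl
  obtain ⟨τ, σ, h1, h2, h3, h4⟩ := pair_hn
  obtain ⟨w, g, k, hww, hwx, hwt, hwg, hkz⟩ := abs_two hodd e htx hzx htt hzz h1 h2 (h3.trans htc.symm)
    (by rw [h4]; exact hz.symm)
  exact ⟨w, hww, isConj_iff.2 ⟨k, hkz⟩, hwx, hwt, by rw [hwg]; exact IsConj.trans ht (isConj_iff.2 ⟨g, rfl⟩)⟩

end Cfsg.Agent.H705.TC.FiveHN
end

-- part: H705/TC/FiveTwo
section
/-!
# S4173, row B: elements of order 5 of the Baby Monster (helper705)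

* `type_cases` : `x` of order 5 of the Monster commuting with `t` of class 2A: `Two x t` or
  `|C(x, t)| = 2 n m`, `n ∣ 5 ^ 7`, `m ≤ 1920`, `15 ∣ m`;
* `five_two` : an element of order 5 of `B` commutes with a 2B-involution or has `|C(y)| ≤ 6000000`.
-/

set_option autoImplicit false
set_option maxRecDepth 100000
set_option linter.unusedSectionVars false

namespace Cfsg.Agent.H705.TC.FiveTwo

open Cfsg Cfsg.Agent Cfsg.Agent.MonsterX Cfsg.Agent.MonsterX.InstData Cfsg.Agent.MonsterX.MainPack Cfsg.Agent.MonsterU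
open Cfsg.Agent.MonsterP Cfsg.Agent.MonsterN Cfsg.Agent.LThree Cfsg.Agent.LThreeMB
open Cfsg.Agent.MonsterX.MainBasic Cfsg.Agent.MonsterX.MainSimple Cfsg.Agent.MonsterX.Model
open Cfsg.Agent.LThreeB (XT mem_XT centXT centXT' conjXT)
open Subgroup (centralizer mem_centralizer_singleton_iff center card_dvd_of_le zpowers)
open Cfsg.Spor (Co1)
open Cfsg.Agent.H979.BAdj Cfsg.Agent.H979.CovLift Cfsg.Agent.H979.OddB
open Cfsg.Agent.H630.NH Cfsg.Agent.H241.NH Cfsg.Agent.H630.Baby
open Cfsg.Agent.BpSpor.M5 Cfsg.Agent.H705.OreB.FiveRad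
open Cfsg.Agent.H844.Ore.BReal (Two)
open Cfsg.Agent.H844.Ore (TwoB)

universe u v

/-- **the data**: `|C(x) ∩ C(t)| = 2 n m`, `n` a power of 5 -/
def DatFive {G : Type*} [Group G] (x t : G) : Prop :=
  ∃ n m : ℕ, Nat.card ↥(XT x t) = n * (2 * m) ∧ m ≤ 1920 ∧ 15 ∣ m ∧ n ∣ 5 ^ 7

/-- **Fixed rank 0.** -/
theorem zero_card {y : centralizer ({KDone.K.z} : Set Mon)} (hy : orderOf y = 5)
    (hfr : fr (KChart.pi MFive.Row.hc y) = 1) {t : Mon}
    (hto : orderOf t = 2) (htz : ∀ g : Mon, g * t * g⁻¹ ≠ KDone.K.z) (hty : t * (y : Mon) = y * t) :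
    DatFive (y : Mon) t := by
  have hfin : Finite Mon := MThirteen.Row.finite
  have h := KChart.chart KDone.lft MFive.Row.hc
  have hp : Fact (Nat.Prime 5) := ⟨Nat.prime_five⟩
  have hy' : orderOf (KChart.pi MFive.Row.hc y) = 5 := MFive.orderOf_pi h Nat.prime_five (by decide) hy
  have hS : Spor.IsoJ2 (XX (KChart.pi MFive.Row.hc y)) := MFive.JTwo.isoJ2 hy' hfr
  have hcS : Nat.card (XX (KChart.pi MFive.Row.hc y)) = 604800 := by
    obtain ⟨e⟩ := hS
    exact (Nat.card_congr e.toEquiv).trans Cfsg.Agent.S1619.result.2.2.2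
  have hs : IsSimpleGroup (XX (KChart.pi MFive.Row.hc y)) := by
    obtain ⟨e⟩ := hS
    exact (MulEquiv.isSimpleGroup_congr e).2 Cfsg.Agent.S1620.result.1
  have hns : ¬ Group.IsSolvable (XX (KChart.pi MFive.Row.hc y)) :=
    H199.NSmMon.not_solvable hs hcS (by norm_num) (by norm_num)
  have hfS : Finite (XX (KChart.pi MFive.Row.hc y)) := Nat.finite_of_card_ne_zero (by rw [hcS]; norm_num)
  obtain ⟨N, hN⟩ := BpSpor.M5.exists_rad h (by norm_num) hy hfr
    (fun d hd hc => MFive.isolated h BpSpor.M5.trNe hy hfr d hd hc) hs (by rw [hcS]; decide)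
  -- `N` is a 5-group
  have hN5 : Nat.card ↥N ∣ 5 ^ 7 := by
    obtain ⟨m, hm, hcD⟩ := hN.card_N_mul hns
    have h1 := H58.MonFiveB.card_dvd hy hfr
    rw [hcD, hcS] at h1
    have h2 : Nat.card ↥N * 604800 ∣ 5 ^ 7 * 2 * 604800 := by
      refine ((mul_dvd_mul_left _ (dvd_mul_right _ m)).trans h1).trans ?_
      norm_num
    have h3 : Nat.card ↥N ∣ 5 ^ 7 * 2 := Nat.dvd_of_mul_dvd_mul_right (by norm_num) h2
    exact Nat.Coprime.dvd_of_dvd_mul_right (Nat.coprime_two_right.2 hN.oN) h3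
  set t' : ↥(centralizer ({(y : Mon)} : Set Mon)) := ⟨t, mem_centralizer_singleton_iff.2 hty⟩ with ht'
  have hXT : Nat.card ↥(XT (y : Mon) t) = Nat.card ↥(centralizer ({t'} : Set ↥(centralizer ({(y : Mon)} : Set Mon)))) :=
    (Nat.card_congr (centXT' t').toEquiv).symm
  obtain ⟨m, hm1, hm2, hm3⟩ := rad_card hns hN (fun v hv hv1 => j2_card hS v hv hv1) (t := t') (Subtype.ext (by
      show t * t = 1
      rw [← pow_two, ← hto, pow_orderOf_eq_one])) (by
      intro h1
      have h2 : t = 1 := congrArg Subtype.val h1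
      rw [h2, orderOf_one] at hto
      omega) (fun d h1 => htz (d : Mon) (congrArg Subtype.val h1))
  rw [← hXT] at hm1
  exact ⟨_, m, hm1, hm2, hm3, (card_dvd_of_le inf_le_left).trans hN5⟩

/-- type II, up to conjugacy and powers -/
theorem dat_of_conj {x t : Mon} (hx : orderOf x = 5) (ht : orderOf t = 2) (htz : ∀ g : Mon, g * t * g⁻¹ ≠ KDone.K.z)
    (hxt : x * t = t * x) {y₀ : centralizer ({KDone.K.z} : Set Mon)} {k : Mon} {i : ℕ} (hy₀ : orderOf y₀ = 5)
    (hfr : fr (KChart.pi MFive.Row.hc y₀) = 1) (hk : k * x * k⁻¹ = (y₀ : Mon) ^ i) : DatFive x t := by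
  have hki : orderOf ((y₀ : Mon) ^ i) = 5 := by
    rw [← hk, ← hx]
    exact MulEquiv.orderOf_eq (MulAut.conj k) x
  have hoy : orderOf (y₀ : Mon) = 5 := by rw [Subgroup.orderOf_coe, hy₀]
  obtain ⟨j, hj⟩ : ∃ j : ℕ, ((y₀ : Mon) ^ i) ^ j = y₀ := by
    refine exists_pow_eq_self_of_coprime ?_
    rw [hoy]
    by_contra hcon
    have h5 : 5 ∣ i := by
      by_contra h6
      exact hcon ((Nat.coprime_comm).1 ((Nat.Prime.coprime_iff_not_dvd Nat.prime_five).2 h6))
    obtain ⟨r, rfl⟩ := h5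
    have h7 : (y₀ : Mon) ^ 5 = 1 := by rw [← hoy, pow_orderOf_eq_one]
    rw [pow_mul, h7, one_pow, orderOf_one] at hki
    norm_num at hki
  have hcomm : ∀ g : Mon, g * (y₀ : Mon) ^ i = (y₀ : Mon) ^ i * g ↔ g * (y₀ : Mon) = y₀ * g := by
    intro g
    constructor
    · intro h1
      have h2 := ((show Commute g ((y₀ : Mon) ^ i) from h1).pow_right j).eq
      rwa [hj] at h2
    · intro h1
      exact ((show Commute g (y₀ : Mon) from h1).pow_right i).eq
  have hxt' : (k * x * k⁻¹) * (k * t * k⁻¹) = (k * t * k⁻¹) * (k * x * k⁻¹) := LThreeB.conj_comm' hxt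
  rw [hk] at hxt'
  obtain ⟨n, m, h1, h2⟩ := zero_card hy₀ hfr (t := k * t * k⁻¹)
    (by rw [← ht]; exact MulEquiv.orderOf_eq (MulAut.conj k) t)
    (fun g hg => htz (g * k) (by rw [← hg]; group)) ((hcomm _).1 hxt'.symm)
  have hXT : XT ((y₀ : Mon) ^ i) (k * t * k⁻¹) = XT (y₀ : Mon) (k * t * k⁻¹) := by
    ext g
    rw [mem_XT, mem_XT, hcomm]
  refine ⟨n, m, ?_, h2⟩
  rw [← card_XT_conj k x t, hk, hXT]
  exact h1

/-- **`x` of order 5 in the Monster commuting with `t` of class 2A and with a conjugate of `z`.** -/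
theorem type_cases {x t : Mon} (hx : orderOf x = 5) (ht : LThreeB.Row.TA t)
    (hxt : x * t = t * x) (hex : ∃ g : Mon, (g * KDone.K.z * g⁻¹) * x = x * (g * KDone.K.z * g⁻¹)) :
    (Two x t ∧ Nat.card ↥(XT x t) ≤ 5 * 177408000) ∨ DatFive x t := by
  have hfin : Finite Mon := MThirteen.Row.finite
  have h := KChart.chart KDone.lft MFive.Row.hc
  have hto := MThirteen.Row.ta_order ht
  obtain ⟨x', g, hg⟩ := MFive.Model.exists_in hex
  have hx' : orderOf x' = 5 := by
    rw [← Subgroup.orderOf_coe, ← hx, ← hg]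
    exact (MulEquiv.orderOf_eq (MulAut.conj g) _).symm
  have hgx : g⁻¹ * x * g⁻¹⁻¹ = (x' : Mon) ^ 1 := by rw [← hg]; group
  have htz := MThirteen.Row.ta_ne ht
  -- the ranks
  have hr := CoFive.Ranks.ranks _ (MFive.orderOf_pi h Nat.prime_five (by decide) hx')
  by_cases h1 : fr (KChart.pi MFive.Row.hc x') = 1
  · exact Or.inr (dat_of_conj hx hto htz hxt hx' h1 hgx)
  · rcases MFive.Row.cases_model CpAutBFive.Final.coFive (MFiveHN.Closed.hnEight h) hx hex with
      hHN | ⟨y₀, k, i, hy₀, hfr, hk⟩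
    · left
      refine ⟨?_, ?_⟩
      swap
      · obtain ⟨e⟩ := hHN
        have : IsSimpleGroup Mon := MThirteen.Row.simple
        obtain ⟨τ, hτ, hd⟩ := card_XT_dvd Nat.prime_five (by norm_num) hx hto hxt
        rw [LThreeB.card_centralizer_congr e] at hd
        rcases Cfsg.Agent.SigZeroHN.card_centralizer_cases (u := e τ)
          (by rw [MulEquiv.orderOf_eq]; exact hτ) with ⟨-, h5⟩ | ⟨-, h5⟩
        · rw [h5] at hd
          exact Nat.le_of_dvd (by norm_num) hd
        · rw [h5] at hd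
          exact (Nat.le_of_dvd (by norm_num) hd).trans (by norm_num)
      obtain ⟨-, ⟨e⟩⟩ := LThreeMB.exists_XX_equiv hg
      have hHN' : Spor.IsoHN (XX (x' : Mon)) := MFive.isoHN_congr e.symm hHN
      refine Two.conj g⁻¹ ?_
      have htx : (g⁻¹ * t * g⁻¹⁻¹) * (x' : Mon) = x' * (g⁻¹ * t * g⁻¹⁻¹) := by
        have h2 := LThreeB.conj_comm' (g := g⁻¹) hxt
        rw [hgx, pow_one] at h2
        exact h2.symm
      rw [hgx, pow_one]
      refine FiveHN.two_hn hx' ?_ ?_ hHN' (IsConj.trans ht (isConj_iff.2 ⟨g⁻¹, rfl⟩)) htx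
      · rcases hr with h2 | h2 | h2
        · exact absurd h2 h1
        · rw [h2]; decide
        · rw [h2]; decide
      · rcases hr with h2 | h2 | h2
        · exact absurd h2 h1
        · exact ⟨4, h2⟩
        · exact ⟨8, h2⟩
    · exact Or.inr (dat_of_conj hx hto htz hxt hy₀ hfr hk)

/-! ### The Baby Monster -/

/-- **An element of order 5 of `B`** commutes with a 2B-involution and `|C(y)| ≤ 443520000`, or `|C(y)| ≤ 6000000`. -/
theorem five_two_le {L : Type u} [Group L] [Finite L] (h : Spor.IsoB L) {y : L} (hy : orderOf y = 5) :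
    ((∃ u : L, TwoB u ∧ y * u = u * y) ∧ Nat.card ↥(centralizer ({y} : Set L)) ≤ 443520000) ∨
      Nat.card ↥(centralizer ({y} : Set L)) ≤ 6000000 := by
  have hfin : Finite Mon := MThirteen.Row.finite
  obtain ⟨w, hw, hwy⟩ := OreB.BInvFive.exists_inv h hy
  obtain ⟨t, ht, h2, ⟨e⟩⟩ := exists_cover h
  obtain ⟨a, ha, ha'⟩ := exists_lift h2 Nat.prime_five (by norm_num) (x := e.symm y) (by rw [MulEquiv.orderOf_eq, hy])
  have hye : e (QuotientGroup.mk a) = y := by rw [ha', e.apply_symm_apply]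
  have ha5 : a ^ 5 = 1 := by rw [← ha, pow_orderOf_eq_one]
  have h4 : 4 ∣ Nat.card ↥(centralizer ({(a : Mon)} : Set Mon)) :=
    four_dvd h2 e (by decide : Odd 5) ha5 hw (by rw [ha', e.apply_symm_apply, hwy])
  have haM : orderOf (a : Mon) = 5 := by rw [Subgroup.orderOf_coe, ha]
  have hex := (CpAutBFive.EvenRow.cases haM).resolve_right fun h => h h4
  have hc : Nat.card ↥(XT (a : Mon) t) = Nat.card ↥(centralizer ({y} : Set L)) * 2 := by
    have h3 := card_cent h2 e Nat.prime_five (by norm_num) ha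
    rw [ha', e.apply_symm_apply] at h3
    rw [← h3]
    exact Nat.card_congr (centXT a).toEquiv
  rcases type_cases haM ht (mem_centralizer_singleton_iff.1 a.2) hex with
    ⟨⟨w, hww, hzw, hwa, hwt, hta⟩, hle⟩ | ⟨n, m, h5, h6, h7, h8⟩
  · left
    refine ⟨⟨e (QuotientGroup.mk ⟨w, mem_centralizer_singleton_iff.2 hwt⟩),
      ⟨t, ht, h2, e, ⟨w, mem_centralizer_singleton_iff.2 hwt⟩, hww, hzw, hta, rfl⟩, ?_⟩, ?_⟩
    · rw [← hye, ← map_mul, ← map_mul]
      congr 1
      have e1 : a * (⟨w, mem_centralizer_singleton_iff.2 hwt⟩ : ↥(centralizer ({t} : Set Mon))) =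
          (⟨w, mem_centralizer_singleton_iff.2 hwt⟩ : ↥(centralizer ({t} : Set Mon))) * a := Subtype.ext hwa.symm
      rw [← QuotientGroup.mk_mul, e1, QuotientGroup.mk_mul]
    · rw [hc] at hle
      omega
  · right
    have hd : Nat.card ↥(centralizer ({y} : Set L)) ∣ 4154781481226426191177580544000000 := by
      rw [← NotCT.Orders.b h]
      exact Subgroup.card_subgroup_dvd_card _
    have hnm : Nat.card ↥(centralizer ({y} : Set L)) = n * m := by
      rw [hc] at h5
      have : n * (2 * m) = n * m * 2 := by ring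
      rw [this] at h5
      omega
    rw [hnm] at hd ⊢
    obtain ⟨v, hv, rfl⟩ := (Nat.dvd_prime_pow Nat.prime_five).1 h8
    have hv5 : v ≤ 5 := by
      by_contra hcon
      have h14 : 5 ^ 7 ∣ 5 ^ v * m := by
        have h15 : 5 ∣ m := (by norm_num : 5 ∣ 15).trans h7
        have := mul_dvd_mul (pow_dvd_pow 5 (show 6 ≤ v by omega)) h15
        rwa [← pow_succ] at this
      have := h14.trans hd
      norm_num at this
    calc 5 ^ v * m ≤ 5 ^ 5 * 1920 := Nat.mul_le_mul (Nat.pow_le_pow_right (by norm_num) hv5) h6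
      _ = 6000000 := by norm_num

/-- **The centralizers of the elements of order 5 of `B`**, all: `|C(y)| ≤ 443520000`. -/
theorem five_le {L : Type u} [Group L] [Finite L] (h : Spor.IsoB L) {y : L} (hy : orderOf y = 5) :
    Nat.card ↥(centralizer ({y} : Set L)) ≤ 443520000 :=
  (five_two_le h hy).elim And.right fun h1 => h1.trans (by norm_num)

end Cfsg.Agent.H705.TC.FiveTwo
end

-- part: H844/TC/BPrimeLe
section
/-!
# The elements of prime order at least five of the Baby Monster (helper844)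

`prime_le` : `|C(y)| ≤ 443520000`.
-/

set_option autoImplicit false

namespace Cfsg.Agent.H844.TC.BPrimeLe

universe u

open Cfsg Cfsg.Agent Cfsg.Agent.H844.Ore.BPrimes
open Cfsg.Agent.H715.Mon.Grp (SThree)
open Subgroup (centralizer)

/-- **`|C(y)| ≤ 443520000` for `y` of prime order at least five** -/
theorem prime_le (h3 : SThree.{0}) {L : Type u} [Group L] (h : Spor.IsoB L) {y : L} (hp : (orderOf y).Prime)
    (h5 : 5 ≤ orderOf y) : Nat.card ↥(centralizer ({y} : Set L)) ≤ 443520000 := by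
  have hs : IsSimpleGroup L := isSimple h
  have hfin : Finite L := Nat.finite_of_card_ne_zero (by rw [NotCT.Orders.b h]; norm_num)
  have hd : orderOf y ∣ 2 ^ 41 * (3 ^ 13 * (5 ^ 6 * (7 ^ 2 * (11 * (13 * (17 * (19 * (23 * (31 * 47))))))))) := by
    refine (orderOf_dvd_natCard y).trans ?_
    rw [NotCT.Orders.b h]
    norm_num
  have key : ∀ {q k : ℕ}, q.Prime → orderOf y ∣ q ^ k → orderOf y = q := fun hq h1 =>
    (Nat.prime_dvd_prime_iff_eq hp hq).1 (hp.dvd_of_dvd_pow h1)
  have key' : ∀ {q : ℕ}, q.Prime → orderOf y ∣ q → orderOf y = q := fun hq h1 =>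
    (Nat.prime_dvd_prime_iff_eq hp hq).1 h1
  rcases hp.dvd_mul.1 hd with h1 | h1
  · have := key Nat.prime_two h1; omega
  rcases hp.dvd_mul.1 h1 with h1 | h1
  · have := key Nat.prime_three h1; omega
  rcases hp.dvd_mul.1 h1 with h1 | h1
  · exact H705.TC.FiveTwo.five_le h (key Nat.prime_five h1)
  rcases hp.dvd_mul.1 h1 with h1 | h1
  · exact (Nat.le_of_dvd (by norm_num) (seven_dvd h (key (by norm_num) h1))).trans (by norm_num)
  rcases hp.dvd_mul.1 h1 with h1 | h1
  · exact (Nat.le_of_dvd (by norm_num) (eleven_dvd h (key' (by norm_num) h1))).trans (by norm_num)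
  rcases hp.dvd_mul.1 h1 with h1 | h1
  · rw [(H139.LD.struct13 h (key' (by norm_num) h1)).1]; norm_num
  rcases hp.dvd_mul.1 h1 with h1 | h1
  · exact (Nat.le_of_dvd (by norm_num) (seventeen_dvd h3 h (key' (by norm_num) h1))).trans (by norm_num)
  rcases hp.dvd_mul.1 h1 with h1 | h1
  · rw [H715.Mon.Exact.B.cent19 h3 h (key' (by norm_num) h1)]; norm_num
  rcases hp.dvd_mul.1 h1 with h1 | h1
  · rw [H715.Mon.Exact.B.cent23 h3 h (key' (by norm_num) h1)]; norm_num
  rcases hp.dvd_mul.1 h1 with h1 | h1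
  · rw [H715.Mon.Exact.B.cent31 h3 h (key' (by norm_num) h1)]; norm_num
  · rw [H954.DR.CentB.cent47 h (key' (by norm_num) h1)]; norm_num

end Cfsg.Agent.H844.TC.BPrimeLe
end
end
end
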